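import Mathlib

/-!
# Blichfeldt's sixty degree lemma for simple groups

In a finite simple group with an irreducible unitary representation, no non-trivial element has all
its eigenvalues at distance less than one from one of its eigenvalues (after scaling that one to 1).
The usual hypothesis of primitivity is not needed for a simple group.
-/

set_option autoImplicit false

open scoped InnerProductSpace ComplexConjugate

namespace Cfsg.Agent.BrauerBlichfeldt

variable {V : Type*} [NormedAddCommGroup V] [InnerProductSpace ℂ V]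

/-- A unitary map with an eigenbasis of eigenvalues close to `1` moves vectors less than their norm. -/
theorem norm_map_sub_lt {ι : Type*} [Fintype ι] (b : Module.Basis ι ℂ V) (L : Module.End ℂ V)
    (hL : ∀ u v, ⟪L u, L v⟫_ℂ = ⟪u, v⟫_ℂ) (μ : ι → ℂ) (hb : ∀ i, L (b i) = μ i • b i)
    (hnorm : ∀ i, ‖μ i‖ = 1) (hclose : ∀ i, ‖μ i - 1‖ < 1) {u : V} (hu : u ≠ 0) :
    ‖L u - u‖ < ‖u‖ := by
  classical
  let S : Finset ℂ := Finset.univ.image μ
  let v : ℂ → V := fun z => ∑ i ∈ Finset.univ.filter (fun i => μ i = z), b.repr u i • b i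
  have hsum : ∑ z ∈ S, v z = u := by
    rw [Finset.sum_fiberwise_of_maps_to (fun i _ => Finset.mem_image_of_mem μ (Finset.mem_univ i))]
    exact b.sum_repr u
  have hLv : ∀ z, L (v z) = z • v z := by
    intro z
    simp only [v, map_sum, Finset.smul_sum]
    refine Finset.sum_congr rfl fun i hi => ?_
    rw [map_smul, hb, (Finset.mem_filter.1 hi).2, smul_comm]
  have hS : ∀ z ∈ S, ‖z‖ = 1 ∧ ‖z - 1‖ < 1 := by
    intro z hz
    obtain ⟨i, -, rfl⟩ := Finset.mem_image.1 hz
    exact ⟨hnorm i, hclose i⟩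
  have horth : ∀ z ∈ S, ∀ z' ∈ S, z ≠ z' → ⟪v z, v z'⟫_ℂ = 0 := by
    intro z hz z' hz' hne
    have h := hL (v z) (v z')
    rw [hLv, hLv, inner_smul_left, inner_smul_right, ← mul_assoc] at h
    by_contra h0
    have h1 : conj z * z' = 1 := mul_right_cancel₀ h0 (by rw [h, one_mul])
    have h2 : z * conj z = 1 := by
      rw [Complex.mul_conj, Complex.normSq_eq_norm_sq, (hS z hz).1]; simp
    exact hne (by
      calc z = z * (conj z * z') := by rw [h1, mul_one]
        _ = z' := by rw [← mul_assoc, h2, one_mul])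
  have hnsq : ∀ c : ℂ → ℂ, ‖∑ z ∈ S, c z • v z‖ ^ 2 = ∑ z ∈ S, ‖c z‖ ^ 2 * ‖v z‖ ^ 2 := by
    intro c
    have : ⟪∑ z ∈ S, c z • v z, ∑ z ∈ S, c z • v z⟫_ℂ = ∑ z ∈ S, ⟪c z • v z, c z • v z⟫_ℂ := by
      rw [sum_inner]
      refine Finset.sum_congr rfl fun z hz => ?_
      rw [inner_sum]
      refine Finset.sum_eq_single z (fun z' hz' hne => ?_) (fun h => absurd hz h)
      rw [inner_smul_left, inner_smul_right, horth z hz z' hz' (Ne.symm hne), mul_zero, mul_zero]
    simp only [inner_self_eq_norm_sq_to_K, norm_smul] at this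
    push_cast at this
    have h2 : ((‖∑ z ∈ S, c z • v z‖ ^ 2 : ℝ) : ℂ) =
        ((∑ z ∈ S, ‖c z‖ ^ 2 * ‖v z‖ ^ 2 : ℝ) : ℂ) := by
      push_cast
      simpa [mul_pow] using this
    exact_mod_cast h2
  have h1 : ‖u‖ ^ 2 = ∑ z ∈ S, ‖v z‖ ^ 2 := by
    simpa [hsum] using hnsq fun _ => 1
  have h2 : ‖L u - u‖ ^ 2 = ∑ z ∈ S, ‖z - 1‖ ^ 2 * ‖v z‖ ^ 2 := by
    rw [← hnsq fun z => z - 1]
    congr 2
    conv_lhs => rw [← hsum]
    rw [map_sum, ← Finset.sum_sub_distrib]
    exact Finset.sum_congr rfl fun z _ => by rw [hLv, sub_smul, one_smul]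
  obtain ⟨z₀, hz₀, hv₀⟩ : ∃ z ∈ S, v z ≠ 0 := by
    by_contra h
    push Not at h
    exact hu (hsum ▸ Finset.sum_eq_zero h)
  have hlt : ‖L u - u‖ ^ 2 < ‖u‖ ^ 2 := by
    rw [h1, h2]
    refine Finset.sum_lt_sum (fun z hz => ?_) ⟨z₀, hz₀, ?_⟩
    · exact mul_le_of_le_one_left (sq_nonneg _) (pow_le_one₀ (norm_nonneg _) (hS z hz).2.le)
    · exact mul_lt_of_lt_one_left (by positivity)
        (pow_lt_one₀ (norm_nonneg _) (hS z₀ hz₀).2 two_ne_zero)
  exact lt_of_pow_lt_pow_left₀ 2 (norm_nonneg u) hlt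

/-- **Blichfeldt's lemma** for finite simple groups: if `L` is a unit scalar multiple of the image of
`g`, fixes a non-zero vector and moves every vector less than its norm, then `g` is central. -/
theorem mem_center_of_close {G : Type*} [Group G] [Finite G] [IsSimpleGroup G]
    [FiniteDimensional ℂ V] (R : Representation ℂ G V) (hirr : R.IsIrreducible)
    (hR : ∀ a u v, ⟪R a u, R a v⟫_ℂ = ⟪u, v⟫_ℂ) (hinj : Function.Injective R) (g : G) (c : ℂ)
    (hc : ‖c‖ = 1) (hclose : ∀ u : V, u ≠ 0 → ‖c • R g u - u‖ < ‖u‖)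
    (hfix : ∃ w : V, w ≠ 0 ∧ c • R g w = w) : g ∈ Subgroup.center G := by
  classical
  by_contra hg
  obtain ⟨w₀, hw₀, hw₀f⟩ := hfix
  let L : Module.End ℂ V := c • R g
  have hLa : ∀ u, L u = c • R g u := fun u => rfl
  let W : Submodule ℂ V := LinearMap.ker (L - 1)
  have hW : ∀ u, u ∈ W ↔ c • R g u = u := fun u => by
    rw [LinearMap.mem_ker, LinearMap.sub_apply, sub_eq_zero]; rfl
  have hnorm : ∀ a u, ‖R a u‖ = ‖u‖ := fun a u => by
    rw [norm_eq_sqrt_re_inner (𝕜 := ℂ), norm_eq_sqrt_re_inner (𝕜 := ℂ), hR]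
  have hmul : ∀ a b u, R (a * b) u = R a (R b u) := fun a b u => by
    rw [map_mul, Module.End.mul_apply]
  have hcc : conj c * c = 1 := by
    rw [mul_comm, Complex.mul_conj, Complex.normSq_eq_norm_sq, hc]; simp
  -- the stabiliser of the fixed space
  let S : Submonoid G :=
    { carrier := {a | ∀ w ∈ W, R a w ∈ W}
      mul_mem' := fun {a b} ha hb w hw => by rw [hmul]; exact ha _ (hb w hw)
      one_mem' := fun w hw => by rwa [map_one, Module.End.one_apply] }
  let F : Subgroup G :=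
    { S with
      inv_mem' := fun {a} ha => by
        obtain ⟨n, hn⟩ : ∃ n : ℕ, a⁻¹ = a ^ n :=
          ⟨orderOf a - 1, inv_eq_of_mul_eq_one_right (by
            rw [← pow_succ', Nat.sub_add_cancel (orderOf_pos a), pow_orderOf_eq_one])⟩
        show a⁻¹ ∈ S
        rw [hn]
        exact S.pow_mem ha n }
  have hFm : ∀ a, a ∈ F ↔ ∀ w ∈ W, R a w ∈ W := fun a => Iff.rfl
  have hgF : g ∈ F := by
    intro w hw
    have h1 := (hW w).1 hw
    rw [hW, ← map_smul, h1]
  let b := Module.finBasis ℂ W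
  let φ : G → ℝ := fun h => ∑ i, ‖R h (b i : V) - (b i : V)‖ ^ 2
  have key : ∀ h : G, h⁻¹ * g * h ∈ F := by
    by_contra hcon
    push Not at hcon
    obtain ⟨h₁, hh₁⟩ := hcon
    let _ := Fintype.ofFinite G
    obtain ⟨h, hh, hmin⟩ := Finset.exists_min_image
      (Finset.univ.filter fun h : G => h⁻¹ * g * h ∉ F) φ ⟨h₁, by simpa using hh₁⟩
    rw [Finset.mem_filter] at hh
    have hhF : h ∉ F := fun hF => hh.2 (F.mul_mem (F.mul_mem (F.inv_mem hF) hgF) hF)
    set k := h⁻¹ * g * h with hk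
    let cm := g⁻¹ * h⁻¹ * g * h
    have hstep : ∀ w ∈ W, ‖R cm w - w‖ = ‖L (R h w - w) - (R h w - w)‖ := by
      intro w hw
      have h1 := (hW w).1 hw
      have e1 : R (h * g) (R cm w) = R g (R h w) := by
        rw [← hmul, ← hmul]
        congr 2
        simp [cm, mul_assoc]
      have e2 : L (R h w - w) - (R h w - w) = c • R (h * g) (R cm w - w) := by
        rw [map_sub (R (h * g)), e1, smul_sub, hmul h g w, ← map_smul (R h), h1, map_sub,
          show L w = w from h1, hLa]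
        abel
      rw [e2, norm_smul, hc, one_mul, hnorm]
    have hsq : ∀ i, ‖R cm (b i : V) - (b i : V)‖ ^ 2 ≤ ‖R h (b i : V) - (b i : V)‖ ^ 2 := by
      intro i
      rw [hstep _ (b i).2]
      refine pow_le_pow_left₀ (norm_nonneg _) ?_ 2
      by_cases h0 : R h (b i : V) - (b i : V) = 0
      · rw [h0]; simp
      · exact (hclose _ h0).le
    obtain ⟨i₀, hi₀⟩ : ∃ i, R h (b i : V) ≠ (b i : V) := by
      by_contra hall
      push Not at hall
      refine hhF fun w hw => ?_
      have he : (R h).comp W.subtype = W.subtype := b.ext fun i => hall i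
      have h2 := LinearMap.congr_fun he ⟨w, hw⟩
      simp only [LinearMap.comp_apply, Submodule.subtype_apply] at h2
      rw [h2]; exact hw
    have hlt : φ cm < φ h := by
      refine Finset.sum_lt_sum (fun i _ => hsq i) ⟨i₀, Finset.mem_univ _, ?_⟩
      rw [hstep _ (b i₀).2]
      exact pow_lt_pow_left₀ (hclose _ (sub_ne_zero.2 hi₀)) (norm_nonneg _) two_ne_zero
    have hconj : k⁻¹ * g * k ∈ F := by
      have h1 : cm⁻¹ * g * cm ∈ F := by
        by_contra h2
        exact (hmin cm (Finset.mem_filter.2 ⟨Finset.mem_univ _, h2⟩)).not_gt hlt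
      have e : cm⁻¹ * g * cm = k⁻¹ * g * k := by simp [cm, hk, mul_assoc]
      rwa [e] at h1
    -- `L` leaves the image of `W` under `k` invariant
    refine hh.2 fun w hw => ?_
    by_contra hkw
    set u := R k w with hu
    have hu' : R (k⁻¹ * g * k) w = R k⁻¹ (R g u) := by rw [hmul, hmul]
    have hv : ∃ w' ∈ W, L u - u = R k w' := by
      refine ⟨c • R (k⁻¹ * g * k) w - w, W.sub_mem (W.smul_mem c (hconj w hw)) hw, ?_⟩
      rw [map_sub, map_smul, hu', ← hmul, mul_inv_cancel, map_one, Module.End.one_apply, hLa]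
    obtain ⟨w', hw', hv⟩ := hv
    have hw'0 : w' ≠ 0 := fun h0 => hkw ((hW u).2 (sub_eq_zero.1 (by rw [← hLa, hv, h0, map_zero])))
    have horth : ⟪R k w', w'⟫_ℂ = 0 := by
      have h1 : ⟪L u, L w'⟫_ℂ = ⟪u, w'⟫_ℂ := by
        simp only [hLa, inner_smul_left, inner_smul_right, hR, ← mul_assoc, mul_comm c (conj c), hcc, one_mul]
      rw [show L w' = w' from (hW w').1 hw'] at h1
      rw [← hv, inner_sub_left, h1, sub_self]
    have hcl : ‖c • R k w' - w'‖ < ‖w'‖ := by
      have e : c • R k w' - w' = R h⁻¹ (c • R g (R h w') - R h w') := by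
        rw [map_sub, map_smul, ← hmul h⁻¹ h, inv_mul_cancel, map_one, Module.End.one_apply, hk,
          hmul, hmul]
      rw [e, hnorm, ← hnorm h w']
      refine hclose _ fun h0 => hw'0 ?_
      rw [← norm_eq_zero, ← hnorm h, h0, norm_zero]
    have h2 : ‖c • R k w' - w'‖ ^ 2 = 2 * ‖w'‖ ^ 2 := by
      rw [norm_sub_sq (𝕜 := ℂ), inner_smul_left, horth, norm_smul, hc, hnorm]
      simp
      ring
    have h3 : ‖c • R k w' - w'‖ ^ 2 < ‖w'‖ ^ 2 := pow_lt_pow_left₀ hcl (norm_nonneg _) two_ne_zero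
    nlinarith [sq_nonneg ‖w'‖]
  have hFtop : F = ⊤ := by
    have hg1 : g ≠ 1 := fun h => hg (h ▸ Subgroup.one_mem _)
    have hle : Subgroup.normalClosure ({g} : Set G) ≤ F := by
      rw [Subgroup.normalClosure, Subgroup.closure_le]
      intro a ha
      simp only [Group.mem_conjugatesOfSet_iff, Set.mem_singleton_iff, exists_eq_left] at ha
      obtain ⟨x, rfl⟩ := isConj_iff.1 ha
      simpa using key x⁻¹
    rcases (Subgroup.normalClosure_normal (s := ({g} : Set G))).eq_bot_or_eq_top with h | h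
    · exact absurd (Subgroup.mem_bot.1 (h ▸ Subgroup.subset_normalClosure rfl)) hg1
    · exact top_le_iff.1 (h ▸ hle)
  -- so `W` is invariant, hence everything
  have hinv : ∀ a, ∀ w ∈ W, R a w ∈ W := fun a => (hFm a).1 (hFtop ▸ Subgroup.mem_top a)
  let Wsub : Subrepresentation R := ⟨W, fun a w hw => hinv a w hw⟩
  have : IsSimpleOrder (Subrepresentation R) := hirr
  have hWtop : ∀ u, u ∈ W := by
    rcases IsSimpleOrder.eq_bot_or_eq_top Wsub with h | h
    · have hmem : w₀ ∈ Wsub.toSubmodule := (hW w₀).2 hw₀f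
      rw [h] at hmem
      exact absurd ((Submodule.mem_bot ℂ).1 hmem) hw₀
    · intro u
      have : u ∈ Wsub.toSubmodule := by rw [h]; trivial
      exact this
  refine hg (Subgroup.mem_center_iff.2 fun a => hinj (LinearMap.ext fun u => ?_))
  rw [hmul, hmul]
  have h1 := (hW _).1 (hWtop (R a u))
  have h2 := (hW _).1 (hWtop u)
  have hc0 : c ≠ 0 := by rw [← norm_ne_zero_iff, hc]; exact one_ne_zero
  refine smul_right_injective V hc0 ?_
  show c • R a (R g u) = c • R g (R a u)
  rw [← map_smul, h2, h1]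

end Cfsg.Agent.BrauerBlichfeldt
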