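import Cfsg.Agent.Lib.Blocks.Core
import Cfsg.Agent.Lib.CharInt.Galois
import Cfsg.Agent.Lib.CharInt.Congruence

/-!
# Few eigenvalues and a power with eigenvalues close together

* `card_eigen_le`: `p`-th roots of unity `μ i` (`g * m` of them) whose power sums are divisible by `m`,
  with quotient congruent to `g < p` modulo a maximal ideal over `p`, take at most `g` values;
* `exists_close_power`: at most `s` values and `6 ^ (s - 1) < p` give a power with every value at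
  distance less than one from the first.
-/

set_option autoImplicit false
set_option linter.style.haveILetI false

namespace Cfsg.Agent.BrauerBlichfeldt

open Cfsg Cfsg.Agent.Blocks

theorem mk_eq_one_of_pow_eq_one {p : ℕ} [Fact p.Prime] {M : Ideal AlgInt} [M.IsMaximal]
    (hpM : (p : AlgInt) ∈ M) {z : AlgInt} (hz : z ^ p = 1) : Ideal.Quotient.mk M z = 1 := by
  haveI := charP_residue hpM
  have h : (Ideal.Quotient.mk M z - 1) ^ p = 0 := by
    rw [sub_pow_char, ← map_pow, hz, map_one, one_pow, sub_self]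
  exact sub_eq_zero.1 (pow_eq_zero_iff (Nat.Prime.ne_zero Fact.out) |>.1 h)

theorem card_eigen_le {p : ℕ} [hp : Fact p.Prime] {M : Ideal AlgInt} [M.IsMaximal]
    (hpM : (p : AlgInt) ∈ M) {d m g : ℕ} (hd : d = g * m) (hm : 0 < m) (hgp : g < p)
    (μ : Fin d → ℂ) (hμ : ∀ i, μ i ^ p = 1)
    (hint : IsIntegral ℤ ((∑ i, μ i) / (m : ℂ)))
    (hcongr : red M ((∑ i, μ i) / (m : ℂ)) = (g : AlgInt ⧸ M)) :
    (Finset.univ.image μ).card ≤ g := by
  classical
  haveI := charP_residue hpM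
  have hp0 : p ≠ 0 := hp.out.ne_zero
  obtain ⟨ζ, hζ⟩ : ∃ ζ : ℂ, IsPrimitiveRoot ζ p := ⟨_, Complex.isPrimitiveRoot_exp p hp0⟩
  let Rt : Finset ℂ := (Finset.range p).image (fun j => ζ ^ j)
  have hRt : ∀ z, z ∈ Rt ↔ z ^ p = 1 := by
    haveI : NeZero p := ⟨hp0⟩
    refine fun z => ⟨fun h => ?_, fun h => ?_⟩
    · obtain ⟨j, -, rfl⟩ := Finset.mem_image.1 h
      rw [← pow_mul, mul_comm, pow_mul, hζ.pow_eq_one, one_pow]
    · obtain ⟨i, hi, rfl⟩ := hζ.eq_pow_of_pow_eq_one h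
      exact Finset.mem_image.2 ⟨i, Finset.mem_range.2 hi, rfl⟩
  have hcard : Rt.card = p := by
    rw [Finset.card_image_of_injOn, Finset.card_range]
    exact fun i hi j hj h => hζ.pow_inj (Finset.mem_range.1 hi) (Finset.mem_range.1 hj) h
  have hsum0 : ∑ z ∈ Rt, z = 0 := by
    rw [Finset.sum_image fun i hi j hj h =>
      hζ.pow_inj (Finset.mem_range.1 hi) (Finset.mem_range.1 hj) h]
    exact hζ.geom_sum_eq_zero hp.out.one_lt
  let n : ℂ → ℕ := fun z => (Finset.univ.filter fun i => μ i = z).card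
  have hne : ∀ z ∈ Rt, z ≠ 0 := fun z hz h => by simpa [h, zero_pow hp0] using (hRt z).1 hz
  -- the values at the powers
  have hαk : ∀ k, k ∈ Finset.range p → k ≠ 0 → IsIntegral ℤ ((∑ i, μ i ^ k) / (m : ℂ)) := by
    intro k hk hk0
    have hco : k.Coprime p := Nat.Coprime.symm ((hp.out.coprime_iff_not_dvd).2 fun h =>
      hk0 (Nat.eq_zero_of_dvd_of_lt h (Finset.mem_range.1 hk)))
    obtain ⟨f, hf⟩ := CharInt.exists_ringHom_pow hp0 hco
    have := hint.map f.toIntAlgHom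
    simpa [map_div₀, map_sum, fun i => hf _ (hμ i)] using this
  -- the multiplicities are congruent modulo `m`
  have hmod : ∀ z ∈ Rt, ∀ w ∈ Rt, n z % m = n w % m := by
    intro z hz w hw
    have hdiv : ∀ u ∈ Rt, ∑ k ∈ Finset.range p, u⁻¹ ^ k * ∑ i, μ i ^ k = (p : ℂ) * n u := by
      intro u hu
      simp only [Finset.mul_sum, ← mul_pow]
      rw [Finset.sum_comm]
      have : ∀ i, ∑ k ∈ Finset.range p, (u⁻¹ * μ i) ^ k = if μ i = u then (p : ℂ) else 0 := by
        intro i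
        split_ifs with h
        · simp [h, inv_mul_cancel₀ (hne u hu)]
        · rw [geom_sum_eq (fun e => h ?_), mul_pow, hμ i, inv_pow, (hRt u).1 hu, inv_one, one_mul,
            sub_self, zero_div]
          rwa [inv_mul_eq_one₀ (hne u hu), eq_comm] at e
      rw [Finset.sum_congr rfl fun i _ => this i, Finset.sum_ite, Finset.sum_const_zero, add_zero,
        Finset.sum_const, nsmul_eq_mul, mul_comm]
    let A : ℕ → ℂ := fun k => (z⁻¹ ^ k - w⁻¹ ^ k) * ((∑ i, μ i ^ k) / (m : ℂ))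
    have hA : ∑ k ∈ Finset.range p, A k = (((p : ℤ) * ((n z : ℤ) - n w) : ℤ) : ℂ) / (m : ℂ) := by
      simp only [A, sub_mul, mul_div_assoc', ← sub_div, ← Finset.sum_div, Finset.sum_sub_distrib]
      rw [hdiv z hz, hdiv w hw]
      push_cast
      ring
    have hroot : ∀ u ∈ Rt, ∀ k : ℕ, ∃ a : AlgInt, (a : ℂ) = u⁻¹ ^ k ∧ Ideal.Quotient.mk M a = 1 := by
      intro u hu k
      have h1 : (u⁻¹ ^ k) ^ p = 1 := by
        rw [← pow_mul, mul_comm, pow_mul, inv_pow u p, (hRt u).1 hu, inv_one, one_pow]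
      refine ⟨algIntMk _ (CharInt.isIntegral_of_pow_eq_one hp0 h1), rfl,
        mk_eq_one_of_pow_eq_one hpM (Subtype.ext ?_)⟩
      push_cast
      exact h1
    have hAk : ∀ k ∈ Finset.range p, ∃ a : AlgInt, (a : ℂ) = A k ∧ a ∈ M := by
      intro k hk
      rcases Nat.eq_zero_or_pos k with rfl | hk0
      · exact ⟨0, by simp [A], M.zero_mem⟩
      obtain ⟨a, ha, ha1⟩ := hroot z hz k
      obtain ⟨b, hb, hb1⟩ := hroot w hw k
      refine ⟨(a - b) * algIntMk _ (hαk k hk hk0.ne'), by push_cast; rw [ha, hb]; rfl, ?_⟩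
      rw [← Ideal.Quotient.eq_zero_iff_mem, map_mul, map_sub, ha1, hb1, sub_self, zero_mul]
    choose a ha haM using hAk
    have hsumA : ((∑ k ∈ (Finset.range p).attach, a k.1 k.2 : AlgInt) : ℂ)
        = (((p : ℤ) * ((n z : ℤ) - n w) : ℤ) : ℂ) / (m : ℂ) := by
      rw [← hA, ← Finset.sum_attach (Finset.range p)]
      push_cast
      exact Finset.sum_congr rfl fun k _ => ha k.1 k.2
    obtain ⟨Z, hZ⟩ := CharInt.dvd_of_isIntegral_div hm.ne' (hsumA ▸ Subtype.prop _)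
    have hZM : MemLocalIdeal M (Z : ℂ) := by
      have e : ((∑ k ∈ (Finset.range p).attach, a k.1 k.2 : AlgInt) : ℂ) = (Z : ℂ) := by
        rw [hsumA, hZ]; push_cast
        rw [mul_div_cancel_left₀ _ (Nat.cast_ne_zero.2 hm.ne')]
      rw [← e, memLocalIdeal_coe_iff]
      exact Ideal.sum_mem _ fun k _ => haM k.1 k.2
    obtain ⟨Z', rfl⟩ := (memLocalIdeal_intCast_iff hpM Z).1 hZM
    have h1 : (n z : ℤ) - n w = m * Z' := by
      refine mul_left_cancel₀ (Int.natCast_ne_zero.2 hp0) ?_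
      rw [hZ]; ring
    have h2 : (n w : ℤ) ≡ n z [ZMOD (m : ℤ)] := Int.modEq_iff_dvd.2 ⟨Z', h1⟩
    exact ((Int.natCast_modEq_iff).1 h2).symm
  -- degree count
  have h1mem : (1 : ℂ) ∈ Rt := (hRt 1).2 (one_pow p)
  set r := n 1 % m with hr
  let f : ℂ → ℕ := fun z => n z / m
  have hn : ∀ z ∈ Rt, n z = r + m * f z := fun z hz => by
    rw [hr, ← hmod z hz 1 h1mem]; exact (Nat.mod_add_div _ _).symm
  have htot : d = ∑ z ∈ Rt, n z := by
    rw [← Finset.card_eq_sum_card_fiberwise (fun i _ => (hRt _).2 (hμ i)), Finset.card_univ,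
      Fintype.card_fin]
  set s := ∑ z ∈ Rt, f z with hs
  have hgm : g * m = p * r + m * s := by
    rw [← hd, htot, Finset.sum_congr rfl hn, Finset.sum_add_distrib, Finset.sum_const, hcard,
      smul_eq_mul, ← Finset.mul_sum]
  have hval : (∑ i, μ i) / (m : ℂ) = ∑ z ∈ Rt, (f z : ℂ) * z := by
    rw [div_eq_iff (Nat.cast_ne_zero.2 hm.ne'),
      ← Finset.sum_fiberwise_of_maps_to (g := μ) (fun i _ => (hRt _).2 (hμ i))]
    calc ∑ z ∈ Rt, ∑ i ∈ Finset.univ.filter (fun i => μ i = z), μ i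
        = ∑ z ∈ Rt, ((r : ℂ) * z + (f z : ℂ) * z * m) := Finset.sum_congr rfl fun z hz => by
          rw [Finset.sum_congr rfl fun i hi => (Finset.mem_filter.1 hi).2, Finset.sum_const,
            nsmul_eq_mul, show ((Finset.univ.filter fun i => μ i = z).card) = n z from rfl, hn z hz]
          push_cast; ring
      _ = _ := by rw [Finset.sum_add_distrib, ← Finset.mul_sum, hsum0, mul_zero, zero_add,
          Finset.sum_mul]
  have hred : red M (∑ z ∈ Rt, (f z : ℂ) * z) = (s : AlgInt ⧸ M) := by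
    have hI : ∀ z ∈ Rt, IsIntegral ℤ z := fun z hz =>
      CharInt.isIntegral_of_pow_eq_one hp0 ((hRt z).1 hz)
    rw [red_sum _ fun z hz => MemLocalRing.mul (memLocalRing_natCast _)
      (memLocalRing_of_isIntegral (hI z hz)), hs, Nat.cast_sum]
    refine Finset.sum_congr rfl fun z hz => ?_
    rw [red_mul (memLocalRing_natCast _) (memLocalRing_of_isIntegral (hI z hz)), red_natCast]
    have h1 : red M z = 1 := by
      rw [show z = ((algIntMk z (hI z hz) : AlgInt) : ℂ) from rfl, red_coe]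
      exact mk_eq_one_of_pow_eq_one hpM (Subtype.ext (by push_cast; exact (hRt z).1 hz))
    rw [h1, mul_one]
  rw [hval, hred] at hcongr
  have hsg : s ≤ g := Nat.le_of_mul_le_mul_left (by rw [mul_comm m g, hgm]; omega) hm
  have hsg' : s = g := by
    have h := (CharP.natCast_eq_natCast (AlgInt ⧸ M) p).1 hcongr
    exact Nat.ModEq.eq_of_lt_of_lt h (hsg.trans_lt hgp) hgp
  have hr0 : r = 0 := by
    rw [hsg', mul_comm g m] at hgm
    exact (mul_eq_zero.1 (by omega : p * r = 0)).resolve_left hp0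
  calc (Finset.univ.image μ).card ≤ ∑ z ∈ Finset.univ.image μ, f z := by
        rw [Finset.card_eq_sum_ones]
        refine Finset.sum_le_sum fun z hz => ?_
        obtain ⟨i, -, rfl⟩ := Finset.mem_image.1 hz
        have hpos : 0 < n (μ i) := Finset.card_pos.2 ⟨i, by simp⟩
        rw [hn _ ((hRt _).2 (hμ i)), hr0, zero_add] at hpos
        exact Nat.pos_of_mul_pos_left hpos
    _ ≤ s := Finset.sum_le_sum_of_subset fun z hz => by
        obtain ⟨i, -, rfl⟩ := Finset.mem_image.1 hz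
        exact (hRt _).2 (hμ i)
    _ = g := hsg'

theorem norm_exp_sub_one_lt {t : ℝ} (ht : |t| < Real.pi / 3) :
    ‖Complex.exp (t * Complex.I) - 1‖ < 1 := by
  have hc : 1 / 2 < Real.cos t := by
    rw [← Real.cos_abs t, ← Real.cos_pi_div_three]
    exact Real.cos_lt_cos_of_nonneg_of_le_pi (abs_nonneg t) (by linarith [Real.pi_pos]) ht
  have h : Complex.normSq (Complex.exp (t * Complex.I) - 1) = 2 - 2 * Real.cos t := by
    rw [Complex.exp_mul_I, ← Complex.ofReal_cos, ← Complex.ofReal_sin, Complex.normSq_apply]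
    simp [Complex.ofReal_re, Complex.cos_ofReal_re, Complex.sin_ofReal_re]
    nlinarith [Real.sin_sq_add_cos_sq t]
  rw [Complex.normSq_eq_norm_sq] at h
  nlinarith [norm_nonneg (Complex.exp (t * Complex.I) - 1)]

/-- Pigeonhole: some power brings all the values within sixty degrees of the first. -/
theorem exists_close_power {p : ℕ} (hp : p.Prime) (Λ : Finset ℂ) (hΛ : ∀ z ∈ Λ, z ^ p = 1)
    {z₀ : ℂ} (hz₀ : z₀ ∈ Λ) (hbig : 6 ^ (Λ.card - 1) < p) :
    ∃ K : ℕ, 0 < K ∧ K < p ∧ ∀ z ∈ Λ, ‖(z₀ ^ K)⁻¹ * z ^ K - 1‖ < 1 := by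
  classical
  haveI : NeZero p := ⟨hp.ne_zero⟩
  set ζ := Complex.exp (2 * Real.pi * Complex.I / p) with hζdef
  have hζ : IsPrimitiveRoot ζ p := Complex.isPrimitiveRoot_exp p hp.ne_zero
  let T := Λ.erase z₀
  have hdat : ∀ z ∈ T, ∃ e : ℤ, z₀⁻¹ * z = ζ ^ e := by
    intro z hz
    obtain ⟨j, -, hj⟩ := hζ.eq_pow_of_pow_eq_one (hΛ z (Finset.mem_of_mem_erase hz))
    obtain ⟨j₀, -, hj₀⟩ := hζ.eq_pow_of_pow_eq_one (hΛ z₀ hz₀)
    refine ⟨(j : ℤ) - j₀, ?_⟩
    rw [← hj, ← hj₀, zpow_sub₀ (hζ.ne_zero hp.ne_zero), zpow_natCast, zpow_natCast, mul_comm,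
      div_eq_mul_inv]
  choose e he using hdat
  have hppos : (0 : ℤ) < p := by exact_mod_cast hp.pos
  let v : ℕ → T → ℤ := fun k z => ((k : ℤ) * e z.1 z.2) % p
  have hv : ∀ k z, 0 ≤ v k z ∧ v k z < p := fun k z =>
    ⟨Int.emod_nonneg _ hppos.ne', Int.emod_lt_of_pos _ hppos⟩
  let box : Fin p → (T → Fin 6) := fun k z => ⟨(6 * v k z / p).toNat, by
    obtain ⟨h1, h2⟩ := hv k z
    have h3 : 6 * v k z / p < 6 := Int.ediv_lt_of_lt_mul hppos (by linarith)
    omega⟩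
  obtain ⟨k₁, k₂, hne, hbox⟩ := Fintype.exists_ne_map_eq_of_card_lt box (by
    rw [Fintype.card_fun, Fintype.card_coe, Fintype.card_fin, Fintype.card_fin,
      Finset.card_erase_of_mem hz₀]
    exact hbig)
  wlog hlt : k₂ < k₁ generalizing k₁ k₂
  · exact this k₂ k₁ hne.symm hbox.symm ((not_lt.1 hlt).lt_of_ne hne)
  have hlt' : (k₂ : ℕ) < k₁ := hlt
  refine ⟨(k₁ : ℕ) - k₂, by omega, by omega, fun z hz => ?_⟩
  by_cases hzz : z = z₀
  · subst hzz
    rw [inv_mul_cancel₀ (pow_ne_zero _ fun h => by simpa [h, zero_pow hp.ne_zero] using hΛ _ hz),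
      sub_self, norm_zero]
    exact one_pos
  let z' : T := ⟨z, Finset.mem_erase.2 ⟨hzz, hz⟩⟩
  set D := v k₁ z' - v k₂ z' with hD
  have hD6 : |6 * D| < p := by
    obtain ⟨a1, a2⟩ := hv k₁ z'
    obtain ⟨b1, b2⟩ := hv k₂ z'
    have h := congrArg (fun f => ((f z').1 : ℤ)) hbox
    simp only [box] at h
    rw [Int.toNat_of_nonneg (Int.ediv_nonneg (by positivity) hppos.le),
      Int.toNat_of_nonneg (Int.ediv_nonneg (by positivity) hppos.le)] at h
    have i1 := Int.emod_add_mul_ediv (6 * v k₁ z') p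
    have i2 := Int.emod_add_mul_ediv (6 * v k₂ z') p
    have j1 := Int.emod_nonneg (6 * v k₁ z') hppos.ne'
    have j2 := Int.emod_nonneg (6 * v k₂ z') hppos.ne'
    have k1 := Int.emod_lt_of_pos (6 * v k₁ z') hppos
    have k2 := Int.emod_lt_of_pos (6 * v k₂ z') hppos
    rw [abs_lt, hD]
    rw [h] at i1
    constructor <;> linarith
  obtain ⟨q, hq⟩ : (p : ℤ) ∣ ((((k₁ : ℕ) - k₂ : ℕ) : ℤ)) * e z z'.2 - D := by
    rw [hD, Nat.cast_sub hlt'.le]
    have d1 : (p : ℤ) ∣ ((k₁ : ℕ) : ℤ) * e z z'.2 - v k₁ z' := Int.dvd_self_sub_emod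
    have d2 : (p : ℤ) ∣ ((k₂ : ℕ) : ℤ) * e z z'.2 - v k₂ z' := Int.dvd_self_sub_emod
    have h12 := dvd_sub d1 d2
    show (p : ℤ) ∣ (((k₁ : ℕ) : ℤ) - (k₂ : ℕ)) * e z z'.2 - (v k₁ z' - v k₂ z')
    have heq : (((k₁ : ℕ) : ℤ) - (k₂ : ℕ)) * e z z'.2 - (v k₁ z' - v k₂ z') =
        ((k₁ : ℕ) : ℤ) * e z z'.2 - v k₁ z' - (((k₂ : ℕ) : ℤ) * e z z'.2 - v k₂ z') := by ring
    rw [heq]
    exact h12
  have key : (z₀ ^ ((k₁ : ℕ) - k₂))⁻¹ * z ^ ((k₁ : ℕ) - k₂) = ζ ^ D := by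
    rw [← inv_pow, ← mul_pow, he z z'.2, ← zpow_natCast, ← zpow_mul,
      show e z z'.2 * (((k₁ : ℕ) - k₂ : ℕ) : ℤ) = (p : ℤ) * q + D by linarith,
      zpow_add₀ (hζ.ne_zero hp.ne_zero), zpow_mul, zpow_natCast, hζ.pow_eq_one, one_zpow, one_mul]
  rw [key, hζdef, ← Complex.exp_int_mul]
  have : (D : ℂ) * (2 * Real.pi * Complex.I / p) =
      ((2 * Real.pi * D / p : ℝ) : ℂ) * Complex.I := by
    push_cast; ring
  rw [this]
  refine norm_exp_sub_one_lt ?_
  have hD' : |6 * (D : ℝ)| < p := by exact_mod_cast hD6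
  have hpR : (0 : ℝ) < p := by exact_mod_cast hp.pos
  rw [abs_lt] at hD' ⊢
  constructor
  · rw [lt_div_iff₀ hpR]; nlinarith [Real.pi_pos]
  · rw [div_lt_iff₀ hpR]; nlinarith [Real.pi_pos]

end Cfsg.Agent.BrauerBlichfeldt
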